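import Cfsg.Agent.H0.EM24Z.D
import Cfsg.Agent.H0.MHZ.Main
set_option maxRecDepth 100000
set_option Elab.async false
set_option linter.unusedSectionVars false
namespace H0.EM24Z
open H0 BN 
theorem defs_ok : DefsOK R.p defs 13 := defsOK_of_chk c49
universe u
variable {G : Type u} [Group G] [Finite G] (m0 : Model G) (h0 : m0.R = H0.MM24.R)
noncomputable def m : Model G := m0.ext (lg := nat_lit 9) (N := nat_lit 512) (l := H0.MM24.nl) h0 nl nl_ok 13 rfl defs defs_ok (by decide +kernel)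
theorem mR : (m m0 h0).R = R := rfl
variable (hb : m0.pst [33, 2, 1, 0] = ⊥) (hc : Nat.card G = 244823040)
include h0 hb hc
theorem base : (m m0 h0).pst [33, 2, 1, 0] = ⊥ := hb
omit hb hc in
theorem geq {x : ℕ} (h : x < 13) : (m m0 h0).g x = m0.g x := m0.ext_g h0 _ _ _ _ _ _ _ h
omit hb hc in
theorem zch_ok : (m m0 h0).ChainOK zch [] := ((m m0 h0).chain_cons [0, 1, 0, 1, 0, 1, 0, 1, 0, 1, 0, 1, 0, 0] (Model.via _ (mR m0 h0) (fun R => Model.fixP R [] [[27], [28]]) c10) (Model.via _ (mR m0 h0) (fun R => Model.growP R [[27], [28]] [0, 1, 0, 1, 0, 1, 0, 1, 0, 1, 0, 1, 0, 0] 143 276) c11) ((m m0 h0).chain_cons [0, 1, 0, 1, 0, 0, 1, 0, 0, 0] (Model.via _ (mR m0 h0) (fun R => Model.fixP R [143] [[29], [30]]) c8) (Model.via _ (mR m0 h0) (fun R => Model.growP R [[29], [30]] [0, 1, 0, 1, 0, 0, 1, 0, 0, 0] 244 44) c9) ((m m0 h0).chain_cons [0, 1, 0, 1, 0, 0, 1, 0] (Model.via _ (mR m0 h0) (fun R => Model.fixP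 R [244, 143] [[31], [32]]) c6) (Model.via _ (mR m0 h0) (fun R => Model.growP R [[31], [32]] [0, 1, 0, 1, 0, 0, 1, 0] 174 21) c7) ((m m0 h0).chain_cons [0, 1, 0, 1, 0, 1, 0, 1, 0, 1, 0, 0, 1] (Model.via _ (mR m0 h0) (fun R => Model.fixP R [174, 244, 143] [[33], [34]]) c4) (Model.via _ (mR m0 h0) (fun R => Model.growP R [[33], [34]] [0, 1, 0, 1, 0, 1, 0, 1, 0, 1, 0, 0, 1] 97 160) c5) ((m m0 h0).chain_cons [1] (Model.via _ (mR m0 h0) (fun R => Model.fixP R [97, 174, 244, 143] [[35], [36]]) c2) (Model.via _ (mR m0 h0) (fun R => Model.growP R [[35], [36]] [1] 10 2) c3) ((m m0 h0).chain_cons [0, 0] (Model.via _ (mR m0 h0) (fun R => Model.fixP R [10, 97, 174, 244, 143] [[37]]) c0) (Model.via _ (mR m0 h0) (fun R => Model.growP R [[37]] [0, 0] 236 3) c1) ((m m0 h0).chain_nil _)))))))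
theorem ztop : gen (m m0 h0).g (Model.cgens zch) = ⊤ := (m m0 h0).chain_top (zch_ok m0 h0) (hc.trans (by decide +kernel))
theorem zbdd : (m m0 h0).Bdd := (m m0 h0).bdd_of_top (ztop m0 h0 hb hc)
theorem zot : (m m0 h0).OTOK zOT := ((m m0 h0).otok_cons (zch_ok m0 h0) (hc.trans (by decide +kernel)) 5 rfl (Model.via _ (mR m0 h0) (fun R => Model.invB R (Model.cgens (zch.drop 5)) zO0) c38) ((m m0 h0).otok_cons (zch_ok m0 h0) (hc.trans (by decide +kernel)) 4 rfl (Model.via _ (mR m0 h0) (fun R => Model.invB R (Model.cgens (zch.drop 4)) zO1) c37) ((m m0 h0).otok_cons (zch_ok m0 h0) (hc.trans (by decide +kernel)) 3 rfl (Model.via _ (mR m0 h0) (fun R => Model.invB R (Model.cgens (zch.drop 3)) zO2) c36) ((m m0 h0).otok_cons (zch_ok m0 h0) (hc.trans (by decide +kernel)) 2 rfl (Model.via _ (mR m0 h0) (fun R => Model.invB R (Model.cgens (zch.drop 2)) zO3) c35) ((m m0 h0).otok_cons (zch_ok m0 h0) (hc.trans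 (by decide +kernel)) 1 rfl (Model.via _ (mR m0 h0) (fun R => Model.invB R (Model.cgens (zch.drop 1)) zO4) c34) ((m m0 h0).otok_cons (zch_ok m0 h0) (hc.trans (by decide +kernel)) 0 rfl (Model.via _ (mR m0 h0) (fun R => Model.invB R (Model.cgens (zch.drop 0)) zO5) c33) (m m0 h0).otok_nil))))))
theorem zcm : ∀ w ∈ zCg, (m m0 h0).Cm [[26]] (ev (m m0 h0).g w) := (m m0 h0).cm_of_pairs (all_take_done (all_take_step (all_take_zero _ (zCg.flatMap fun w => [[26]].map fun y => (w ++ y, y ++ w))) ((m m0 h0).pairs_of (base m0 h0 hb hc) (Model.via _ (mR m0 h0) (fun R => pairsB R [33, 2, 1, 0] (((zCg.flatMap fun w => [[26]].map fun y => (w ++ y, y ++ w)).drop 0).take 13)) c39))) (by decide +kernel))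
theorem zn5 : (m m0 h0).Sol [[26]] zCg [236, 10, 97, 174, 244, 143] [236, 10, 97, 174, 244, 143] := (m m0 h0).sol_done [0, 1, 2, 3, 4, 5] (((m m0 h0).chain_bot (zch_ok m0 h0) (hc.trans (by decide +kernel))).le.trans bot_le) (by decide +kernel)
theorem zn4 : (m m0 h0).Sol [[26]] zCg [10, 97, 174, 244, 143] [10, 97, 174, 244, 143] := (m m0 h0).sol_free (zbdd m0 h0 hb hc) (zcm m0 h0 hb hc) (zot m0 h0 hb hc) ((m m0 h0).excl_zero _ _) (Model.via _ (mR m0 h0) (fun R => freeB R zOT [[26]] zCg [0, 1, 2, 3, 4] [10, 97, 174, 244, 143] [10, 97, 174, 244, 143] [] 236 0 [([], 236, 0)] [[6, 5, 3, 0]] [0, 0] zc18) c18) ((m m0 h0).solL_cons ((m m0 h0).sol_cyc [] (Bc := [236]) (T := [236]) rfl (Model.via _ (mR m0 h0) (fun R => cycB R (subst [[26]] []) [236]) c16) (Model.via _ (mR m0 h0) (fun R => cycB R (subst [[26]] []) [236]) c17) (zn5 m0 h0 hb hc)) (m m0 h0).solL_nil)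
theorem zn3 : (m m0 h0).Sol [[26]] zCg [97, 174, 244, 143] [97, 174, 244, 143] := (m m0 h0).sol_free (zbdd m0 h0 hb hc) (zcm m0 h0 hb hc) (zot m0 h0 hb hc) ((m m0 h0).excl_zero _ _) (Model.via _ (mR m0 h0) (fun R => freeB R zOT [[26]] zCg [0, 1, 2, 3] [97, 174, 244, 143] [97, 174, 244, 143] [] 10 0 [([], 10, 1)] [[6, 6], [6, 5, 3, 0]] [0] zc20) c20) ((m m0 h0).solL_cons ((m m0 h0).sol_cyc [] (Bc := [10]) (T := [10]) rfl (Model.via _ (mR m0 h0) (fun R => cycB R (subst [[26]] []) [10]) c15) (Model.via _ (mR m0 h0) (fun R => cycB R (subst [[26]] []) [10]) c19) (zn4 m0 h0 hb hc)) (m m0 h0).solL_nil)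
theorem zn2 : (m m0 h0).Sol [[26]] zCg [174, 244, 143] [174, 244, 143] := (m m0 h0).sol_free (zbdd m0 h0 hb hc) (zcm m0 h0 hb hc) (zot m0 h0 hb hc) ((m m0 h0).excl_mov (zbdd m0 h0 hb hc) [0] (Model.via _ (mR m0 h0) (fun R => exclB R (subst [[26]] [0]) 97 zD2) c22)) (Model.via _ (mR m0 h0) (fun R => freeB R zOT [[26]] zCg [0, 1, 2] [174, 244, 143] [174, 244, 143] [] 97 zD2 [([], 97, 2)] [[3], [6, 6], [12, 9], [4, 1, 0]] [0, 2, 3, 1, 0, 2] zc23) c23) ((m m0 h0).solL_cons ((m m0 h0).sol_cyc [] (Bc := [97]) (T := [97]) rfl (Model.via _ (mR m0 h0) (fun R => cycB R (subst [[26]] []) [97]) c14) (Model.via _ (mR m0 h0) (fun R => cycB R (subst [[26]] []) [97]) c21) (zn3 m0 h0 hb hc)) (m m0 h0).solL_nil)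
theorem zn1 : (m m0 h0).Sol [[26]] zCg [143] [143] := (m m0 h0).sol_free (zbdd m0 h0 hb hc) (zcm m0 h0 hb hc) (zot m0 h0 hb hc) ((m m0 h0).excl_zero _ _) (Model.via _ (mR m0 h0) (fun R => freeB R zOT [[26]] zCg [0] [143] [143] [] 244 0 [([], 244, 4)] [[0], [3], [10], [4, 1]] [0, 2, 1, 3, 0, 2, 3, 0, 1, 2, 0] zc26) c26) ((m m0 h0).solL_leaves (zot m0 h0 hb hc) [0] (Bc := [174, 244]) (Model.via _ (mR m0 h0) (fun R => cycB R (subst [[26]] [0]) [174, 244]) c13) (Model.via _ (mR m0 h0) (fun R => allL (leafB R zOT (subst [[26]] [0]) [0, 1, 2] [174, 244] [143] [143]) zL25) c25) ((m m0 h0).solL_cons ((m m0 h0).sol_cyc [0] (Bc := [174, 244]) (T := [174, 244]) rfl (Model.via _ (mR m0 h0) (fun R => cycB R (subst [[26]] [0]) [174, 244]) c13) (Model.via _ (mR m0 h0) (fun R => cycB R (subst [[26]] [0]) [174, 244]) c24) (zn2 m0 h0 hb hc)) (m m0 h0).solL_nil))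
theorem zn6 : (m m0 h0).Sol [[26]] zCg [143] [12] := (m m0 h0).sol_free (zbdd m0 h0 hb hc) (zcm m0 h0 hb hc) (zot m0 h0 hb hc) ((m m0 h0).excl_zero _ _) (Model.via _ (mR m0 h0) (fun R => freeB R zOT [[26]] zCg [0] [143] [12] [28, 27, 27, 28, 28, 27, 28, 28] 244 0 [([], 244, 4)] [[3], [12, 0], [6, 4], [9, 6, 0]] [0, 1, 2, 3, 1, 2, 1, 3] zc29) c29) ((m m0 h0).solL_leaves (zot m0 h0 hb hc) [0] (Bc := [174, 244]) (Model.via _ (mR m0 h0) (fun R => cycB R (subst [[26]] [0]) [174, 244]) c13) (Model.via _ (mR m0 h0) (fun R => allL (leafB R zOT (subst [[26]] [0]) [0, 1, 2] [174, 244] [143] [12]) zL28) c28) (m m0 h0).solL_nil)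
theorem zn0 : (m m0 h0).Sol [[26]] zCg [] [] := (m m0 h0).sol_free (zbdd m0 h0 hb hc) (zcm m0 h0 hb hc) (zot m0 h0 hb hc) ((m m0 h0).excl_mov (zbdd m0 h0 hb hc) [0] (Model.via _ (mR m0 h0) (fun R => exclB R (subst [[26]] [0]) 143 zD0) c31)) (Model.via _ (mR m0 h0) (fun R => freeB R zOT [[26]] zCg [] [] [] [] 143 zD0 [([], 143, 5)] [[0], [1]] [1, 1, 0, 1, 0, 1, 1, 0, 1, 0, 1] zc32) c32) ((m m0 h0).solL_cons ((m m0 h0).sol_cyc [] (Bc := [143]) (T := [12]) rfl (Model.via _ (mR m0 h0) (fun R => cycB R (subst [[26]] []) [143]) c12) (Model.via _ (mR m0 h0) (fun R => cycB R (subst [[26]] []) [12]) c30) (zn6 m0 h0 hb hc)) ((m m0 h0).solL_cons ((m m0 h0).sol_cyc [] (Bc := [143]) (T := [143]) rfl (Model.via _ (mR m0 h0) (fun R => cycB R (subst [[26]] []) [143]) c12) (Model.via _ (mR m0 h0) (fun R => cycB R (subst [[26]] []) [143]) c27) (zn1 m0 h0 hb hc)) (m m0 h0).solL_nil))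
theorem zsol : (m m0 h0).Sol [[26]] zCg [] [] := zn0 m0 h0 hb hc
omit hb hc in
theorem lc_ok : (m m0 h0).ChainOK lc [] := ((m m0 h0).chain_cons [0, 1, 0, 1, 0, 1, 0, 1, 0, 0, 1, 0, 1, 0, 1, 0] (Model.via _ (mR m0 h0) (fun R => Model.fixP R [] [[14, 14, 14, 14, 14, 14, 13, 14, 16, 17, 17, 19, 25], [14, 14, 14, 13, 14, 16, 17, 16, 17, 17, 17, 19, 25, 24]]) c44) (Model.via _ (mR m0 h0) (fun R => Model.growP R [[14, 14, 14, 14, 14, 14, 13, 14, 16, 17, 17, 19, 25], [14, 14, 14, 13, 14, 16, 17, 16, 17, 17, 17, 19, 25, 24]] [0, 1, 0, 1, 0, 1, 0, 1, 0, 0, 1, 0, 1, 0, 1, 0] 0 128) c45) ((m m0 h0).chain_cons [0, 1, 0, 1, 0, 1, 0, 1, 1, 0] (Model.via _ (mR m0 h0) (fun R => Model.fixP R [0] [[14, 14, 17, 17, 16, 17, 19, 19, 23], [14, 14, 14, 14, 14, 14, 17, 16, 17, 17, 17, 21, 21, 25, 24, 23], []]) c42) (Model.via _ (mR m0 h0) (fun R => Model.growP R [[14, 14, 17, 17, 16, 17, 19, 19, 23], [14, 14, 14,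 14, 14, 14, 17, 16, 17, 17, 17, 21, 21, 25, 24, 23], []] [0, 1, 0, 1, 0, 1, 0, 1, 1, 0] 1 56) c43) ((m m0 h0).chain_cons [0, 0] (Model.via _ (mR m0 h0) (fun R => Model.fixP R [1, 0] [[14, 14, 14, 16, 17, 17, 21, 21, 19, 25], []]) c40) (Model.via _ (mR m0 h0) (fun R => Model.growP R [[14, 14, 14, 16, 17, 17, 21, 21, 19, 25], []] [0, 0] 2 3) c41) ((m m0 h0).chain_nil _))))
theorem iso : ∃ z : G, orderOf z = 2 ∧ Nonempty (PG 13 H0.MHZ.B ≃* Subgroup.centralizer {z}) := by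
  refine ⟨ev (m m0 h0).g [26], orderOf_eq_prime (by simpa [sq] using (all_take_done (all_take_step (all_take_zero _ [([26, 26], [])]) ((m m0 h0).pairs_of (base m0 h0 hb hc) (Model.via _ (mR m0 h0) (fun R => pairsB R [33, 2, 1, 0] (([([26, 26], [])].drop 0).take 1)) c46))) (by decide +kernel)) _ List.mem_cons_self) ((m m0 h0).ne_of_neB (Model.via _ (mR m0 h0) (fun R => neB R [26] [] 0 248 0) c47)), ?_⟩
  rw [(m m0 h0).cent_eq (zcm m0 h0 hb hc) (zsol m0 h0 hb hc)]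
  exact iso_low _ 13 (all_take_done (all_take_step (all_take_zero _ ((H0.MHZ.B.map (sh 13)).map fun r => (r, ([] : List ℕ)))) ((m m0 h0).pairs_of (base m0 h0 hb hc) (Model.via _ (mR m0 h0) (fun R => pairsB R [33, 2, 1, 0] ((((H0.MHZ.B.map (sh 13)).map fun r => (r, ([] : List ℕ))).drop 0).take 53)) c48))) (by decide +kernel)) (by decide +kernel) (H0.MHZ.upper (Pres.pg _ _))
    ((m m0 h0).chain_card (lc_ok m0 h0) ((gen_le_sh _ (by decide +kernel)).trans (gen_sh _ 13 (lets 13)).le))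
end H0.EM24Z
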